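import Cfsg.Agent.FGS4.FreeModule.NormalBasis
import Mathlib.Algebra.MonoidAlgebra.Basic
import Mathlib.GroupTheory.Abelianization.Defs
import Mathlib.GroupTheory.PGroup
import Mathlib.GroupTheory.Perm.Cycle.Type
import Mathlib.Algebra.DirectSum.Module

/-! # Fixed point free abelian actions give free modules -/

set_option linter.style.haveILetI false

namespace Cfsg.Agent.FGS4.FreeModule

variable {k U : Type*} [Field k] [AddCommGroup U] [Module k U]

/-- `U` is free for the operators `σ`. -/
def IsFree {H : Type*} [Group H] [Fintype H] (σ : H →* Module.End k U) : Prop :=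
  ∃ W : Submodule k U, (∀ f : H → U, (∀ h, f h ∈ W) → ∑ h, σ h (f h) = 0 → f = 0) ∧
    ∀ v : U, ∃ f : H → U, (∀ h, f h ∈ W) ∧ ∑ h, σ h (f h) = v

theorem IsFree.isInternal {H : Type*} [Group H] [Fintype H] [DecidableEq H] {σ : H →* Module.End k U}
    (hσ : IsFree σ) : ∃ W : Submodule k U, DirectSum.IsInternal (fun h : H => W.map (σ h)) := by
  classical
  obtain ⟨W, hinj, hsurj⟩ := hσ
  refine ⟨W, ?_⟩
  have hsum : ∀ x : DirectSum H (fun h => W.map (σ h)),
      DirectSum.coeLinearMap (fun h => W.map (σ h)) x = ∑ h, ((x h : W.map (σ h)) : U) := by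
    intro x
    rw [DirectSum.coeLinearMap_eq_dfinsuppSum]
    exact Finset.sum_subset (Finset.subset_univ _) fun h _ hh => by
      simp [DFinsupp.notMem_support_iff.1 hh]
  refine ⟨fun x y hxy => ?_, fun v => ?_⟩
  · have hpre : ∀ (z : DirectSum H (fun h => W.map (σ h))) (h : H), ∃ w ∈ W, σ h w = (z h : U) :=
      fun z h => (Submodule.mem_map.1 (z h).2)
    choose a ha hax using hpre x
    choose b hb hby using hpre y
    have h0 := hinj (fun h => a h - b h) (fun h => W.sub_mem (ha h) (hb h)) (by
      simp only [map_sub, Finset.sum_sub_distrib, hax, hby, ← hsum]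
      exact sub_eq_zero.2 hxy)
    refine DFinsupp.ext fun h => Subtype.ext ?_
    rw [← hax, ← hby, sub_eq_zero.1 (congrFun h0 h)]
  · obtain ⟨f, hf, hfv⟩ := hsurj v
    refine ⟨DFinsupp.equivFunOnFintype.symm fun h => ⟨σ h (f h), Submodule.mem_map_of_mem (hf h)⟩, ?_⟩
    refine Eq.trans (show _ = DirectSum.coeLinearMap (fun h : H => W.map (σ h))
      (DFinsupp.equivFunOnFintype.symm fun h => ⟨σ h (f h), Submodule.mem_map_of_mem (hf h)⟩) from rfl) ?_
    rw [hsum, ← hfv]
    exact Finset.sum_congr rfl fun h _ => rfl

theorem coset_fixed_point {D H : Type*} [Group D] [Finite D] [Group H] [Finite H] (α : H →* MulAut D)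
    (hfpf : ∀ h : H, h ≠ 1 → ∀ d : D, α h d = d → d = 1) (hcop : (Nat.card H).Coprime (Nat.card D))
    {h : H} (h1 : h ≠ 1) {x : Abelianization D} (hx : (α h).abelianizationCongr x = x) : x = 1 := by
  classical
  obtain ⟨r, hr, hro⟩ := Nat.exists_prime_and_dvd (mt orderOf_eq_one_iff.1 h1)
  haveI := Fact.mk hr
  set h' := h ^ (orderOf h / r) with hh'
  have hord : orderOf h' = r := orderOf_pow_orderOf_div (orderOf_pos h).ne' hro
  have hh1 : h' ≠ 1 := fun e => by rw [e, orderOf_one] at hord; exact hr.ne_one hord.symm
  obtain ⟨d, rfl⟩ := QuotientGroup.mk'_surjective _ x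
  change (α h).abelianizationCongr (Abelianization.of d) = Abelianization.of d at hx
  show Abelianization.of d = 1
  let Co : Type _ := {e : D // Abelianization.of e = Abelianization.of d}
  have hst : ∀ a : H, a ∈ Subgroup.zpowers h' → ∀ e : D, Abelianization.of e = Abelianization.of d →
      Abelianization.of (α a e) = Abelianization.of d := by
    have key : ∀ a : H, a ∈ Subgroup.zpowers h →
        (α a).abelianizationCongr (Abelianization.of d) = Abelianization.of d := by
      intro a ha
      obtain ⟨i, rfl⟩ := (IsOfFinOrder.mem_powers_iff_mem_zpowers (isOfFinOrder_of_finite h)).2 ha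
      induction i with
      | zero => simp [abelianizationCongr_of]
      | succ i ih =>
        have ih' := ih (Subgroup.pow_mem _ (Subgroup.mem_zpowers h) i)
        simp only [abelianizationCongr_of] at ih' hx ⊢
        show Abelianization.of (α (h ^ (i + 1)) d) = _
        rw [pow_succ', map_mul, MulAut.mul_apply, ← abelianizationCongr_of, ih', abelianizationCongr_of, hx]
    intro a ha e he
    rw [← abelianizationCongr_of, he]
    exact key a ((Subgroup.zpowers_le.2 (hh' ▸ Subgroup.pow_mem _ (Subgroup.mem_zpowers h) _)) ha)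
  let act : MulAction (Subgroup.zpowers h') Co :=
    { smul := fun a e => ⟨α (a : H) e.1, hst a a.2 e.1 e.2⟩
      one_smul := fun e => Subtype.ext (show α ((1 : Subgroup.zpowers h') : H) e.1 = e.1 by simp)
      mul_smul := fun a b e => Subtype.ext (show α ((a * b : Subgroup.zpowers h') : H) e.1 = α (a : H) (α (b : H) e.1) by
        rw [Subgroup.coe_mul, map_mul, MulAut.mul_apply]) }
  have hp : IsPGroup r (Subgroup.zpowers h') := IsPGroup.of_card (n := 1) (by rw [Nat.card_zpowers, hord, pow_one])
  have hcard : Nat.card Co = Nat.card (commutator D) := by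
    refine Nat.card_congr
      { toFun := fun e => ⟨d⁻¹ * e.1, QuotientGroup.eq.1 e.2.symm⟩
        invFun := fun c => ⟨d * c.1, QuotientGroup.eq.2 (by
          rw [show (d * c.1)⁻¹ * d = (c.1)⁻¹ by group]; exact inv_mem c.2)⟩
        left_inv := fun e => Subtype.ext (mul_inv_cancel_left _ _)
        right_inv := fun c => Subtype.ext (inv_mul_cancel_left _ _) }
  have hnd : ¬ r ∣ Nat.card Co := by
    rw [hcard]
    intro hd
    exact hr.ne_one (Nat.eq_one_of_dvd_coprimes hcop (hord ▸ orderOf_dvd_natCard h')
      (hd.trans (Subgroup.card_subgroup_dvd_card _)))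
  haveI : Finite Co := Subtype.finite
  obtain ⟨e, he⟩ := hp.nonempty_fixed_point_of_prime_not_dvd_card Co hnd
  have := hfpf h' hh1 e.1 (congrArg Subtype.val (he ⟨h', Subgroup.mem_zpowers h'⟩))
  rw [← e.2, this, map_one]

theorem isFree_of_abelian [FiniteDimensional k U] {D H : Type*} [Group D] [Finite D] [Group H] [Fintype H]
    (σ : H →* Module.End k U) (τ : D →* Module.End k U) (α : H →* MulAut D)
    (hcompat : ∀ h d, σ h * τ d = τ (α h d) * σ h) (hcomm : ∀ a b, τ a * τ b = τ b * τ a)
    (hk : (Nat.card D : k) ≠ 0) (hfix : ∀ v : U, (∀ d, τ d v = v) → v = 0)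
    (hfpf : ∀ h : H, h ≠ 1 → ∀ d : D, α h d = d → d = 1) (hcop : (Nat.card H).Coprime (Nat.card D)) :
    IsFree σ := by
  classical
  haveI := Fintype.ofFinite D
  haveI : Finite (Abelianization D) := Quotient.finite _
  -- the character algebra
  set Ab := Abelianization D
  let β : H →* MulAut Ab :=
    { toFun := fun h => (α h).abelianizationCongr
      map_one' := MulEquiv.ext fun x => by
        obtain ⟨d, rfl⟩ := QuotientGroup.mk'_surjective _ x
        show (α 1).abelianizationCongr (Abelianization.of d) = Abelianization.of d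
        rw [abelianizationCongr_of, map_one, MulAut.one_apply]
      map_mul' := fun a b => MulEquiv.ext fun x => by
        obtain ⟨d, rfl⟩ := QuotientGroup.mk'_surjective _ x
        show (α (a * b)).abelianizationCongr (Abelianization.of d) =
          (α a).abelianizationCongr ((α b).abelianizationCongr (Abelianization.of d))
        rw [abelianizationCongr_of, abelianizationCongr_of, abelianizationCongr_of, map_mul, MulAut.mul_apply] }
  have hβ : ∀ h d, β h (Abelianization.of d) = Abelianization.of (α h d) := fun h d =>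
    abelianizationCongr_of _ _
  let τu : D →* (Module.End k U)ˣ := τ.toHomUnits
  let τb : Ab →* Module.End k U :=
    { toFun := Quotient.lift (fun d => τ d) (fun a b hab => by
        have hle : commutator D ≤ τu.ker := by
          rw [commutator_def, Subgroup.commutator_le]
          intro x _ y _
          rw [MonoidHom.mem_ker, map_commutatorElement, commutatorElement_eq_one_iff_mul_comm]
          exact Units.ext (hcomm x y)
        have := hle (QuotientGroup.leftRel_apply.1 hab)
        rw [MonoidHom.mem_ker, map_mul, map_inv, inv_mul_eq_one] at this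
        exact congrArg Units.val this)
      map_one' := map_one τ
      map_mul' := fun x y => Quotient.inductionOn₂' x y fun a b => map_mul τ a b }
  have hτb : ∀ d, τb (Abelianization.of d) = τ d := fun d => rfl
  let φ : MonoidAlgebra k Ab →ₐ[k] Module.End k U := MonoidAlgebra.lift k (Module.End k U) Ab τb
  letI act : MulSemiringAction H (MonoidAlgebra k Ab) :=
    { smul := fun h r => MonoidAlgebra.domCongr k k (β h) r
      one_smul := fun r => by
        show MonoidAlgebra.domCongr k k (β 1) r = r
        rw [map_one, MulAut.one_def, MonoidAlgebra.domCongr_refl]; rfl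
      mul_smul := fun a b r => by
        show MonoidAlgebra.domCongr k k (β (a * b)) r = _
        rw [map_mul, MulAut.mul_def, ← MonoidAlgebra.trans_domCongr_domCongr]; rfl
      smul_zero := fun h => map_zero (MonoidAlgebra.domCongr k k (β h))
      smul_add := fun h a b => map_add (MonoidAlgebra.domCongr k k (β h)) a b
      smul_one := fun h => map_one (MonoidAlgebra.domCongr k k (β h))
      smul_mul := fun h a b => map_mul (MonoidAlgebra.domCongr k k (β h)) a b }
  have hsmul : ∀ (h : H) (x : Ab) (c : k), h • MonoidAlgebra.single x c = MonoidAlgebra.single (β h x) c :=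
    fun h x c => MonoidAlgebra.domCongr_single _ _ _
  have hσφ : ∀ (h : H) (r : MonoidAlgebra k Ab), σ h * φ r = φ (h • r) * σ h := by
    intro h r
    induction r using MonoidAlgebra.induction_linear with
    | zero => simp
    | add a b ha hb => rw [map_add, smul_add, map_add, mul_add, add_mul, ha, hb]
    | single x c =>
      obtain ⟨d, rfl⟩ := QuotientGroup.mk'_surjective _ x
      change σ h * φ (MonoidAlgebra.single (Abelianization.of d) c) =
        φ (h • MonoidAlgebra.single (Abelianization.of d) c) * σ h
      rw [hsmul, hβ]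
      simp only [φ, MonoidAlgebra.lift_single, hτb, mul_smul_comm, smul_mul_assoc, hcompat]
  have hσu : ∀ h, σ h * σ h⁻¹ = 1 := fun h => by rw [← map_mul, mul_inv_cancel, map_one]
  have hker : ∀ (h : H) (r : MonoidAlgebra k Ab), φ r = 0 → φ (h • r) = 0 := fun h r hr => by
    have := hσφ h r
    rw [hr, mul_zero] at this
    rw [← mul_one (φ (h • r)), ← hσu h, ← mul_assoc, ← this, zero_mul]
  -- the average over `D` acts as zero
  have he0 : φ (∑ d : D, MonoidAlgebra.single (Abelianization.of d) 1) = 0 := by
    refine LinearMap.ext fun v => hfix _ fun d => ?_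
    simp only [map_sum, φ, MonoidAlgebra.lift_single, hτb, one_smul, LinearMap.sum_apply]
    exact Fintype.sum_equiv (Equiv.mulLeft d) _ _ fun e => by
      rw [← Module.End.mul_apply, ← map_mul]; rfl
  haveI : IsArtinianRing (MonoidAlgebra k Ab) := IsArtinianRing.of_finite k _
  obtain ⟨θ, hθ⟩ := exists_unit_det (H := H) (fun I : Ideal (MonoidAlgebra k Ab) => RingHom.ker φ ≤ I)
    (fun h I hI r hr => hI (hker h r hr)) (by
      intro I hI hIk h h1
      by_contra hne
      push Not at hne
      let ψ : Ab → Ab := fun x => x⁻¹ * β h x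
      have hinj : Function.Injective ψ := by
        intro x y hxy
        have hfx : β h (x * y⁻¹) = x * y⁻¹ := by
          rw [map_mul, map_inv]
          have e1 : β h x = x * ψ x := (mul_inv_cancel_left x _).symm
          have e2 : β h y = y * ψ y := (mul_inv_cancel_left y _).symm
          rw [e1, e2, hxy, ← div_eq_mul_inv, ← div_eq_mul_inv, mul_div_mul_right_eq_div]
        exact mul_inv_eq_one.1 (coset_fixed_point α hfpf hcop h1 hfx)
      have hall : ∀ z : Ab, MonoidAlgebra.single z (1 : k) - 1 ∈ I := by
        intro z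
        obtain ⟨x, rfl⟩ := (Finite.injective_iff_surjective.1 hinj) z
        have h2 := I.mul_mem_left (MonoidAlgebra.single x⁻¹ (1 : k)) (hne (MonoidAlgebra.single x 1))
        rwa [hsmul, mul_sub, MonoidAlgebra.single_mul_single, MonoidAlgebra.single_mul_single, one_mul,
          inv_mul_cancel, ← MonoidAlgebra.one_def] at h2
      have h3 : (∑ d : D, MonoidAlgebra.single (Abelianization.of d) (1 : k)) -
          ∑ _d : D, (1 : MonoidAlgebra k Ab) ∈ I := by
        rw [← Finset.sum_sub_distrib]
        exact I.sum_mem fun d _ => hall _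
      have h4 := I.sub_mem (hIk (RingHom.mem_ker.2 he0)) h3
      rw [sub_sub_cancel, Finset.sum_const, Finset.card_univ, nsmul_eq_mul, mul_one,
        ← Nat.card_eq_fintype_card, ← map_natCast (algebraMap k (MonoidAlgebra k Ab))] at h4
      exact hI.ne_top (Ideal.eq_top_of_isUnit_mem _ h4 ((isUnit_iff_ne_zero.2 hk).map _)))
  set M : Matrix H H (MonoidAlgebra k Ab) := transMatrix θ with hM
  obtain ⟨y, hy⟩ : ∃ y, φ (y * M.det) = 1 := by
    by_cases htop : RingHom.ker φ ⊔ Ideal.span {M.det} = ⊤
    · obtain ⟨a, ha, b, hb, hab⟩ := Submodule.mem_sup.1 ((Ideal.eq_top_iff_one _).1 htop)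
      obtain ⟨y, rfl⟩ := Ideal.mem_span_singleton'.1 hb
      refine ⟨y, ?_⟩
      rw [← map_one φ, ← hab, map_add, RingHom.mem_ker.1 ha, zero_add]
    · obtain ⟨I, hI, hle⟩ := Ideal.exists_le_maximal _ htop
      exact absurd (hle (Submodule.mem_sup_right (Ideal.mem_span_singleton_self _)))
        (hθ I hI (le_sup_left.trans hle))
  set N : Matrix H H (MonoidAlgebra k Ab) := y • M.adjugate with hN
  have hNM : N * M = (y * M.det) • 1 := by
    rw [hN, Matrix.smul_mul, Matrix.adjugate_mul, smul_smul]
  have hMN : M * N = (y * M.det) • 1 := by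
    rw [hN, Matrix.mul_smul, Matrix.mul_adjugate, smul_smul]
  let Φ : Matrix H H (MonoidAlgebra k Ab) →+* Matrix H H (Module.End k U) := φ.toRingHom.mapMatrix
  have hΦ1 : Φ ((y * M.det) • 1) = 1 := by
    ext a b
    simp only [Φ, RingHom.mapMatrix_apply, Matrix.map_apply, Matrix.smul_apply, Matrix.one_apply, smul_eq_mul]
    by_cases hab : a = b <;> simp [hab, hy]
  have hequiv : ∀ x h g : H, φ (x • N h (x⁻¹ * g)) = φ (N h g) := by
    intro x
    set P : Matrix H H (MonoidAlgebra k Ab) := Matrix.of fun h g => x • N h (x⁻¹ * g)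
    have hPM : P * M = (x • (y * M.det)) • 1 := by
      ext a b
      have h0 := congrFun (congrFun hNM a) b
      rw [Matrix.mul_apply, Matrix.smul_apply, Matrix.one_apply, smul_eq_mul] at h0
      rw [Matrix.mul_apply, Matrix.smul_apply, Matrix.one_apply, smul_eq_mul]
      have : (∑ g, P a g * M g b) = x • ∑ g, N a g * M g b := by
        rw [Finset.smul_sum]
        refine (Fintype.sum_equiv (Equiv.mulLeft x) _ _ fun g => ?_).symm
        show x • (N a g * ((g * b) • θ)) = (x • N a (x⁻¹ * (x * g))) * ((x * g * b) • θ)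
        rw [inv_mul_cancel_left, smul_mul', ← mul_smul, mul_assoc]
      rw [this, h0, smul_mul']
      by_cases hab : a = b <;> simp [hab]
    have hyx : φ (x • (y * M.det)) = 1 := by
      have := hσφ x (y * M.det)
      rw [hy, mul_one] at this
      rw [← mul_one (φ (x • (y * M.det))), ← hσu x, ← mul_assoc, ← this]
    have hP1 : Φ P * Φ M = 1 := by
      rw [← map_mul, hPM]
      ext a b
      simp only [Φ, RingHom.mapMatrix_apply, Matrix.map_apply, Matrix.smul_apply, Matrix.one_apply, smul_eq_mul]
      by_cases hab : a = b <;> simp only [hab, if_true, if_false, mul_one, mul_zero, map_zero, AlgHom.toRingHom_eq_coe, RingHom.coe_coe, hyx]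
    have e : Φ P = Φ N := left_inv_eq_right_inv hP1 (by rw [← map_mul, hMN, hΦ1])
    intro h g
    exact congrFun (congrFun e h) g
  have hMNapp : ∀ a b : H, ∑ g, φ (M a g) * φ (N g b) = if a = b then 1 else 0 := by
    intro a b
    have := congrFun (congrFun (hΦ1 ▸ congrArg Φ hMN) a) b
    rwa [map_mul, Matrix.mul_apply, Matrix.one_apply] at this
  have hNMapp : ∀ a b : H, ∑ g, φ (N a g) * φ (M g b) = if a = b then 1 else 0 := by
    intro a b
    have := congrFun (congrFun (hΦ1 ▸ congrArg Φ hNM) a) b
    rwa [map_mul, Matrix.mul_apply, Matrix.one_apply] at this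
  let fixed : Submodule k U := ⨅ x : H, LinearMap.ker (σ x - 1)
  have hfixed : ∀ {v : U}, v ∈ fixed ↔ ∀ x, σ x v = v := fun {v} => by
    simp [fixed, sub_eq_zero]
  refine ⟨fixed.map (φ θ), fun f hf h0 => ?_, fun v => ?_⟩
  · choose w hw hwf using fun h => Submodule.mem_map.1 (hf h)
    have h1 : ∀ g, ∑ h, φ (M g h) (w h) = 0 := by
      intro g
      have h2 := congrArg (σ g) h0
      rw [map_sum, map_zero] at h2
      rw [← h2]
      refine Finset.sum_congr rfl fun h _ => ?_
      rw [← hwf, ← Module.End.mul_apply (σ g), ← map_mul, ← Module.End.mul_apply (σ (g * h)), hσφ,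
        Module.End.mul_apply, hfixed.1 (hw h)]
      rfl
    funext a
    have h3 : ∑ g, φ (N a g) (∑ h, φ (M g h) (w h)) = w a := by
      simp only [map_sum]
      rw [Finset.sum_comm]
      simp only [← Module.End.mul_apply, ← LinearMap.sum_apply, hNMapp]
      rw [Finset.sum_eq_single a (fun b _ hb => by rw [if_neg (Ne.symm hb)]; rfl) (fun h => absurd (Finset.mem_univ a) h), if_pos rfl]; rfl
    simp only [h1, map_zero, Finset.sum_const_zero] at h3
    rw [← hwf, ← h3, map_zero]; rfl
  · let w : H → U := fun h => ∑ g, φ (N h g) (σ g v)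
    have hw : ∀ h, w h ∈ fixed := fun h => hfixed.2 fun x => by
      simp only [w, map_sum]
      refine Fintype.sum_equiv (Equiv.mulLeft x) _ _ fun g => ?_
      show σ x (φ (N h g) (σ g v)) = φ (N h (x * g)) (σ (x * g) v)
      rw [← hequiv x h (x * g), inv_mul_cancel_left, ← Module.End.mul_apply (σ x), hσφ, map_mul σ x g]
      rfl
    refine ⟨fun h => φ θ (w h), fun h => Submodule.mem_map_of_mem (hw h), ?_⟩
    have h1 : ∀ h, σ h (φ θ (w h)) = φ (M 1 h) (w h) := fun h => by
      rw [← Module.End.mul_apply (σ h), hσφ, Module.End.mul_apply, hfixed.1 (hw h)]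
      show φ (h • θ) (w h) = φ ((1 * h) • θ) (w h)
      rw [one_mul]
    rw [Finset.sum_congr rfl (fun h _ => h1 h)]
    simp only [w, map_sum]
    rw [Finset.sum_comm]
    simp only [← Module.End.mul_apply, ← LinearMap.sum_apply, ← mul_assoc, ← Finset.sum_mul, hMNapp]
    simp

end Cfsg.Agent.FGS4.FreeModule
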