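import Mathlib.FieldTheory.Galois.NormalBasis
import Mathlib.FieldTheory.Fixed
import Mathlib.RingTheory.Artinian.Module
import Mathlib.RingTheory.Ideal.Quotient.Operations
import Mathlib.LinearAlgebra.Matrix.ToLinearEquiv
import Mathlib.Algebra.Ring.Action.Basic

/-! # Normal bases for free actions on semilocal rings -/

set_option linter.style.haveILetI false

namespace Cfsg.Agent.FGS4.FreeModule

/-- A normal basis element of a field with a faithful finite group action. -/
theorem exists_normal_element (G K : Type*) [Group G] [Finite G] [Field K] [MulSemiringAction G K]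
    [FaithfulSMul G K] :
    ∃ x : K, ∀ c : G → K, (∀ h : G, ∑ᶠ g, c g * (g • h • x) = 0) → c = 0 := by
  classical
  haveI := Fintype.ofFinite G
  set F := FixedPoints.subfield G K
  obtain ⟨x, hx⟩ := exists_linearIndependent_algEquiv_apply F K
  have hy : LinearIndependent F fun g : G => g • x :=
    hx.comp _ (FixedPoints.toAlgAutMulEquiv G K).injective
  have hspan : Submodule.span F (Set.range fun g : G => g • x) = ⊤ :=
    hy.span_eq_top_of_card_eq_finrank (FixedPoints.finrank_eq_card G K).symm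
  refine ⟨x, fun c hc => ?_⟩
  have hlin : ∀ v : K, ∑ g, c g * (g • v) = 0 := by
    intro v
    have hv : v ∈ Submodule.span F (Set.range fun g : G => g • x) := hspan ▸ Submodule.mem_top
    refine Submodule.span_induction ?_ ?_ ?_ ?_ hv
    · rintro _ ⟨h, rfl⟩
      have := hc h
      rwa [finsum_eq_sum_of_fintype] at this
    · simp
    · intro a b _ _ ha hb
      simp only [smul_add, mul_add, Finset.sum_add_distrib, ha, hb, add_zero]
    · intro a b _ hb
      have : ∀ g : G, c g * (g • (a • b)) = (a : K) * (c g * (g • b)) := fun g => by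
        rw [show a • b = (a : K) * b from rfl, smul_mul', a.2 g]
        ring
      simp only [this, ← Finset.mul_sum, hb, mul_zero]
  have hind := (linearIndependent_monoidHom K K).comp
    (fun g : G => ((MulSemiringAction.toRingHom G K g : K →+* K) : K →* K)) (fun g h he => by
      refine eq_of_smul_eq_smul fun v : K => ?_
      exact DFunLike.congr_fun he v)
  exact funext (Fintype.linearIndependent_iff.1 hind c (funext fun v => by
    simpa [Finset.sum_apply] using hlin v))

open scoped Pointwise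

variable {R H : Type*} [CommRing R] [Group H] [MulSemiringAction H R]

/-- A normal basis element at one maximal ideal. -/
theorem exists_local [Finite H] (I : Ideal R) [I.IsMaximal]
    (hfree : ∀ h : H, h ≠ 1 → (∀ r, r ∈ I ↔ h • r ∈ I) → ∃ r : R, h • r - r ∉ I) :
    ∃ x : R, ∀ c : H → R, (∀ g, (¬ ∀ r, r ∈ I ↔ g • r ∈ I) → c g = 0) →
      (∀ h : H, (∀ r, r ∈ I ↔ h • r ∈ I) → ∑ᶠ g, c g * (g • h • x) ∈ I) → ∀ g, c g ∈ I := by
  classical
  haveI := Fintype.ofFinite H
  let S : Subgroup H :=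
    { carrier := {h | ∀ r, r ∈ I ↔ h • r ∈ I}
      one_mem' := fun r => by rw [one_smul]
      mul_mem' := fun {a b} ha hb r => by rw [mul_smul, ← ha, ← hb]
      inv_mem' := fun {a} ha r => by
        conv_rhs => rw [ha, smul_inv_smul] }
  letI := Ideal.Quotient.field I
  let φ : S → (R ⧸ I) →+* (R ⧸ I) := fun s => Ideal.Quotient.lift I
    ((Ideal.Quotient.mk I).comp (MulSemiringAction.toRingHom H R (s : H)))
    (fun r hr => Ideal.Quotient.eq_zero_iff_mem.2 ((s.2 r).1 hr))
  have hφ : ∀ (s : S) (r : R), φ s (Ideal.Quotient.mk I r) = Ideal.Quotient.mk I ((s : H) • r) :=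
    fun s r => rfl
  letI act : MulSemiringAction S (R ⧸ I) :=
    { smul := fun s v => φ s v
      one_smul := fun v => by
        obtain ⟨r, rfl⟩ := Ideal.Quotient.mk_surjective v
        show φ 1 _ = _
        rw [hφ, OneMemClass.coe_one, one_smul]
      mul_smul := fun s t v => by
        obtain ⟨r, rfl⟩ := Ideal.Quotient.mk_surjective v
        show φ (s * t) _ = φ s (φ t _)
        rw [hφ, hφ, hφ, Subgroup.coe_mul, mul_smul]
      smul_zero := fun s => map_zero (φ s)
      smul_add := fun s a b => map_add (φ s) a b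
      smul_one := fun s => map_one (φ s)
      smul_mul := fun s a b => map_mul (φ s) a b }
  have hsm : ∀ (s : S) (r : R), s • (Ideal.Quotient.mk I r) = Ideal.Quotient.mk I ((s : H) • r) :=
    fun s r => rfl
  haveI : FaithfulSMul S (R ⧸ I) := ⟨fun {a b} hab => by
    by_contra hne
    obtain ⟨r, hr⟩ := hfree ((b⁻¹ * a : S) : H) (fun h => hne (inv_mul_eq_one.1 (Subtype.ext h)).symm)
      (b⁻¹ * a : S).2
    apply hr
    rw [← Ideal.Quotient.eq, ← hsm, mul_smul, hab, inv_smul_smul]⟩
  obtain ⟨xb, hxb⟩ := exists_normal_element S (R ⧸ I)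
  obtain ⟨x, rfl⟩ := Ideal.Quotient.mk_surjective xb
  refine ⟨x, fun c hc0 hc g => ?_⟩
  by_cases hg : g ∈ S
  swap
  · rw [hc0 g hg]; exact I.zero_mem
  have h0 := hxb (fun s => Ideal.Quotient.mk I (c (s : H))) fun h => by
    rw [finsum_eq_sum_of_fintype]
    have h1 := Ideal.Quotient.eq_zero_iff_mem.2 (hc (h : H) h.2)
    rw [finsum_eq_sum_of_fintype, map_sum] at h1
    rw [← h1]
    symm
    rw [← Finset.sum_subset (Finset.subset_univ (Finset.univ.map ⟨((↑) : S → H), Subtype.val_injective⟩)),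
      Finset.sum_map]
    · exact Finset.sum_congr rfl fun s _ => by
        rw [hsm, hsm, map_mul]; rfl
    · intro g _ hg
      rw [hc0 g (fun hgS => hg (Finset.mem_map.2 ⟨⟨g, hgS⟩, Finset.mem_univ _, rfl⟩)), zero_mul, map_zero]
  exact Ideal.Quotient.eq_zero_iff_mem.1 (congrFun h0 ⟨g, hg⟩)

variable [Fintype H] [DecidableEq H]

/-- The matrix of translates. -/
def transMatrix (θ : R) : Matrix H H R := Matrix.of fun g h => (g * h) • θ

/-- A common normal basis element at all maximal ideals in an invariant set. -/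
theorem exists_unit_det [IsArtinianRing R] (P : Ideal R → Prop)
    (hP : ∀ (h : H) (I : Ideal R), P I → P (I.comap (MulSemiringAction.toRingHom H R h)))
    (hfree : ∀ I : Ideal R, I.IsMaximal → P I → ∀ h : H, h ≠ 1 → ∃ r : R, h • r - r ∉ I) :
    ∃ θ : R, ∀ I : Ideal R, I.IsMaximal → P I → (transMatrix θ : Matrix H H R).det ∉ I := by
  classical
  -- `I` pulled back along `h`
  let pb : H → MaximalSpectrum R → MaximalSpectrum R := fun h I =>
    ⟨I.asIdeal.comap (MulSemiringAction.toRingHom H R h), by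
      haveI := I.isMaximal
      exact Ideal.comap_isMaximal_of_surjective _ (fun r => ⟨h⁻¹ • r, smul_inv_smul h r⟩)⟩
  have hpb : ∀ h I (r : R), r ∈ (pb h I).asIdeal ↔ h • r ∈ I.asIdeal := fun h I r => Iff.rfl
  have hext : ∀ {I J : MaximalSpectrum R}, (∀ r, r ∈ I.asIdeal ↔ r ∈ J.asIdeal) → I = J :=
    fun h => MaximalSpectrum.ext (Ideal.ext h)
  have pbone : ∀ I, pb 1 I = I := fun I => hext fun r => by rw [hpb, one_smul]
  have pbmul : ∀ a b I, pb b (pb a I) = pb (a * b) I := fun a b I =>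
    hext fun r => by rw [hpb, hpb, hpb, mul_smul]
  let sd : Setoid (MaximalSpectrum R) :=
    { r := fun I J => ∃ h, pb h I = J
      iseqv := ⟨fun I => ⟨1, pbone I⟩, fun {I J} ⟨h, hh⟩ => ⟨h⁻¹, by rw [← hh, pbmul, mul_inv_cancel, pbone]⟩,
        fun {I J K} ⟨a, ha⟩ ⟨b, hb⟩ => ⟨a * b, by rw [← pbmul, ha, hb]⟩⟩ }
  let rep : MaximalSpectrum R → MaximalSpectrum R := fun I => (Quotient.mk sd I).out
  have hrep : ∀ I, ∃ h, pb h (rep I) = I := fun I => Quotient.exact (Quotient.out_eq (Quotient.mk sd I))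
  have hrep' : ∀ h I, rep (pb h I) = rep I := fun h I =>
    congrArg Quotient.out (Quotient.sound (s := sd) (⟨h⁻¹, by rw [pbmul, mul_inv_cancel, pbone]⟩ :
      ∃ k, pb k (pb h I) = I))
  let T : MaximalSpectrum R → Prop := fun I => rep I = I ∧ P I.asIdeal
  have hx : ∀ I, T I → ∃ x : R, ∀ c : H → R, (∀ g, (¬ ∀ r, r ∈ I.asIdeal ↔ g • r ∈ I.asIdeal) → c g = 0) →
      (∀ h : H, (∀ r, r ∈ I.asIdeal ↔ h • r ∈ I.asIdeal) → ∑ᶠ g, c g * (g • h • x) ∈ I.asIdeal) →
      ∀ g, c g ∈ I.asIdeal := fun I hI => by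
    haveI := I.isMaximal
    exact exists_local I.asIdeal fun h hh _ => hfree _ I.isMaximal hI.2 h hh
  let target : ∀ I : MaximalSpectrum R, R ⧸ I.asIdeal := fun I =>
    if hI : T I then Ideal.Quotient.mk _ (hx I hI).choose else 0
  haveI := Fintype.ofFinite (MaximalSpectrum R)
  obtain ⟨θq, hθq⟩ := (Ideal.quotientInfRingEquivPiQuotient (fun I : MaximalSpectrum R => I.asIdeal)
    (fun I J hIJ => Ideal.isCoprime_iff_sup_eq.2
      (I.isMaximal.coprime_of_ne J.isMaximal fun h => hIJ (MaximalSpectrum.ext h)))).surjective target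
  obtain ⟨θ, rfl⟩ := Ideal.Quotient.mk_surjective θq
  have hθ : ∀ I, Ideal.Quotient.mk I.asIdeal θ = target I := fun I => congrFun hθq I
  refine ⟨θ, fun J hJ hPJ hdet => ?_⟩
  set J' : MaximalSpectrum R := ⟨J, hJ⟩
  obtain ⟨a, ha⟩ := hrep J'
  set I := rep J' with hI
  have hIJ : ∀ r : R, r ∈ J ↔ a • r ∈ I.asIdeal := fun r => by rw [← hpb, ha]
  have hTI : T I := by
    refine ⟨?_, ?_⟩
    · have := hrep' a I
      rw [ha] at this
      exact this.symm
    · have h1 := hP a⁻¹ J hPJ
      convert h1 using 1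
      ext r
      rw [Ideal.mem_comap, hIJ]
      show r ∈ I.asIdeal ↔ a • a⁻¹ • r ∈ I.asIdeal
      rw [smul_inv_smul]
  have hx0 := (hx I hTI).choose_spec
  have hθI : ∀ c : R, c • θ - c • (hx I hTI).choose ∈ I.asIdeal := by
    intro c
    rw [smul_eq_mul, smul_eq_mul, ← mul_sub]
    refine I.asIdeal.mul_mem_left c ?_
    rw [← Ideal.Quotient.eq, hθ]
    exact dif_pos hTI
  have hθ0 : ∀ g : H, (¬ ∀ r, r ∈ I.asIdeal ↔ g • r ∈ I.asIdeal) → g • θ ∈ I.asIdeal := by
    intro g hg
    rw [← hpb]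
    rw [← Ideal.Quotient.eq_zero_iff_mem, hθ]
    refine dif_neg fun h => hg ?_
    have he : pb g I = I := by
      rw [← h.1, hrep', hTI.1]
    intro r
    conv_lhs => rw [← he, hpb]
  -- a left kernel vector modulo `J`
  haveI := hJ
  letI := Ideal.Quotient.field J
  obtain ⟨v, hv0, hv⟩ := (Matrix.exists_vecMul_eq_zero_iff
    (M := (transMatrix θ : Matrix H H R).map (Ideal.Quotient.mk J))).2 (by
      rw [← RingHom.mapMatrix_apply, ← RingHom.map_det]
      exact Ideal.Quotient.eq_zero_iff_mem.2 hdet)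
  have hlift : ∀ g, ∃ r : R, Ideal.Quotient.mk J r = v g := fun g => Ideal.Quotient.mk_surjective _
  choose r hr using hlift
  have hsum : ∀ h, ∑ g, r g * ((g * h) • θ) ∈ J := fun h => by
    rw [← Ideal.Quotient.eq_zero_iff_mem, map_sum]
    refine Eq.trans (Finset.sum_congr rfl fun g _ => ?_) (congrFun hv h)
    rw [map_mul, hr]; rfl
  apply hv0
  funext g₀
  rw [← hr, Pi.zero_apply, Ideal.Quotient.eq_zero_iff_mem, hIJ]
  -- restrict to the coset through `g₀`
  set t := (a * g₀)⁻¹ with ht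
  set S : H → Prop := fun g => ∀ r, r ∈ I.asIdeal ↔ g • r ∈ I.asIdeal
  let c : H → R := fun s => if S s then a • r (a⁻¹ * s * t⁻¹) else 0
  have hc := hx0 c (fun g hg => if_neg hg) (fun h hh => ?_) 1
  · simp only [c, if_pos (show S 1 from fun r => by rw [one_smul])] at hc
    have e : a⁻¹ * (1 : H) * t⁻¹ = g₀ := by rw [ht]; group
    rwa [e] at hc
  rw [finsum_eq_sum_of_fintype]
  have h1 := (hIJ _).1 (hsum (t * h))
  rw [Finset.smul_sum] at h1
  rw [← Ideal.Quotient.eq_zero_iff_mem] at h1 ⊢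
  rw [map_sum] at h1 ⊢
  rw [← h1]
  refine (Fintype.sum_equiv ((Equiv.mulLeft a).trans (Equiv.mulRight t)) _ _ fun g => ?_).symm
  show Ideal.Quotient.mk _ (a • (r g * ((g * (t * h)) • θ))) =
    Ideal.Quotient.mk _ (c (a * g * t) * ((a * g * t) • h • (hx I hTI).choose))
  rw [smul_mul', ← mul_smul a, ← mul_smul (a * g * t), show a * (g * (t * h)) = a * g * t * h by group]
  by_cases hs : S (a * g * t)
  · simp only [c, if_pos hs]
    rw [show a⁻¹ * (a * g * t) * t⁻¹ = g by group, map_mul, map_mul]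
    congr 1
    rw [Ideal.Quotient.eq]
    have hsh : S (a * g * t * h) := fun r => by rw [mul_smul, ← hs, ← hh]
    have := (hsh _).1 (hθI 1)
    rwa [one_smul R, one_smul R, smul_sub] at this
  · simp only [c, if_neg hs, zero_mul, map_zero]
    rw [map_mul]
    have hn : ¬ S (a * g * t * h) := fun h' => hs fun r => by
      rw [show a * g * t = a * g * t * h * h⁻¹ by group, mul_smul, ← h']
      conv_rhs => rw [hh, smul_inv_smul]
    rw [Ideal.Quotient.eq_zero_iff_mem.2 (hθ0 _ hn), mul_zero]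

end Cfsg.Agent.FGS4.FreeModule
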