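import Cfsg.Agent.FGS4.FreeModule.Abelian
import Cfsg.Agent.OddLocal.Basic
import Cfsg.Agent.OddLocal.NilBasics
import Mathlib.GroupTheory.Finiteness
import Cfsg.Prelude.Def_Solvable
import Mathlib.GroupTheory.Nilpotent
import Mathlib.GroupTheory.SchurZassenhaus
import Mathlib.GroupTheory.Solvable

/-! # Frobenius groups with fixed point free kernel act freely for the complement -/

set_option linter.style.haveILetI false

open scoped Pointwise

namespace Cfsg.Agent.FGS4.FreeModule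

variable {k V A : Type*} [Field k] [AddCommGroup V] [Module k V] [FiniteDimensional k V] [Group A] [Finite A]

/-- `k`-subspace invariant under a subgroup. -/
def Inv (ρ : Representation k A V) (B : Subgroup A) (U : Submodule k V) : Prop :=
  ∀ a ∈ B, ∀ v ∈ U, ρ a v ∈ U

/-- Freeness inside a subspace. -/
def FreeIn (ρ : Representation k A V) (H : Subgroup A) [Fintype H] (U : Submodule k V) : Prop :=
  ∃ W : Submodule k V, W ≤ U ∧ (∀ f : H → V, (∀ h, f h ∈ W) → ∑ h : H, ρ (h : A) (f h) = 0 → f = 0) ∧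
    ∀ u ∈ U, ∃ f : H → V, (∀ h, f h ∈ W) ∧ ∑ h : H, ρ (h : A) (f h) = u

variable {ρ : Representation k A V} {H K : Subgroup A} [Fintype H]

omit [FiniteDimensional k V] [Finite A] in
theorem FreeIn.sup {U U₁ U₂ : Submodule k V} (h1 : FreeIn ρ H U₁) (h2 : FreeIn ρ H U₂)
    (hinv1 : Inv ρ H U₁) (hinv2 : Inv ρ H U₂) (hdisj : U₁ ⊓ U₂ = ⊥) (hU : U₁ ⊔ U₂ = U) : FreeIn ρ H U := by
  obtain ⟨W₁, hW₁, hi₁, hs₁⟩ := h1
  obtain ⟨W₂, hW₂, hi₂, hs₂⟩ := h2
  refine ⟨W₁ ⊔ W₂, hU ▸ sup_le_sup hW₁ hW₂, fun f hf h0 => ?_, fun u hu => ?_⟩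
  · choose a ha b hb hab using fun h => Submodule.mem_sup.1 (hf h)
    have hsum : ∑ h : H, ρ (h : A) (a h) + ∑ h : H, ρ (h : A) (b h) = 0 := by
      rw [← Finset.sum_add_distrib, ← h0]
      exact Finset.sum_congr rfl fun h _ => by rw [← map_add, hab]
    have hA : ∑ h : H, ρ (h : A) (a h) ∈ U₁ :=
      U₁.sum_mem fun h _ => hinv1 h h.2 _ (hW₁ (ha h))
    have hB : ∑ h : H, ρ (h : A) (b h) ∈ U₂ :=
      U₂.sum_mem fun h _ => hinv2 h h.2 _ (hW₂ (hb h))
    have hA0 : ∑ h : H, ρ (h : A) (a h) = 0 := by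
      have h3 : ∑ h : H, ρ (h : A) (a h) ∈ U₁ ⊓ U₂ := ⟨hA, by
        rw [eq_neg_of_add_eq_zero_left hsum]; exact U₂.neg_mem hB⟩
      rwa [hdisj, Submodule.mem_bot] at h3
    rw [hA0, zero_add] at hsum
    funext h
    rw [← hab, congrFun (hi₁ a ha hA0) h, congrFun (hi₂ b hb hsum) h]
    simp
  · rw [← hU, Submodule.mem_sup] at hu
    obtain ⟨x, hx, y, hy, rfl⟩ := hu
    obtain ⟨a, ha, rfl⟩ := hs₁ x hx
    obtain ⟨b, hb, rfl⟩ := hs₂ y hy
    refine ⟨a + b, fun h => Submodule.add_mem_sup (ha h) (hb h), ?_⟩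
    simp [Pi.add_apply, map_add, Finset.sum_add_distrib]

omit [FiniteDimensional k V] [Finite A] in
theorem freeIn_bot : FreeIn ρ H ⊥ := by
  refine ⟨⊥, le_rfl, fun f hf _ => funext fun h => (Submodule.mem_bot k).1 (hf h), fun u hu => ⟨0, fun _ => Submodule.zero_mem _, ?_⟩⟩
  simp [(Submodule.mem_bot k).1 hu]

/-- A subgroup acting on an invariant subspace. -/
def resHom {B : Subgroup A} {U : Submodule k V} (hU : Inv ρ B U) : B →* Module.End k U where
  toFun b := LinearMap.restrict (ρ (b : A)) (fun v hv => hU b b.2 v hv)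
  map_one' := LinearMap.ext fun v => Subtype.ext (by simp [LinearMap.restrict_apply])
  map_mul' a b := LinearMap.ext fun v => Subtype.ext (by simp [LinearMap.restrict_apply, map_mul])

omit [FiniteDimensional k V] [Finite A] in
theorem resHom_apply {B : Subgroup A} {U : Submodule k V} (hU : Inv ρ B U) (b : B) (v : U) :
    ((resHom hU b v : U) : V) = ρ (b : A) v := rfl

theorem freeIn_of_abelian {D : Subgroup A} {U : Submodule k V} (hUH : Inv ρ H U) (hUD : Inv ρ D U)
    (hD : H ≤ Subgroup.normalizer (D : Set A)) (hk : (Nat.card D : k) ≠ 0)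
    (hcop : (Nat.card H).Coprime (Nat.card D))
    (hfpf : ∀ h ∈ H, h ≠ 1 → ∀ d ∈ D, h * d * h⁻¹ = d → d = 1)
    (hcomm : ∀ a ∈ D, ∀ b ∈ D, ∀ v ∈ U, ρ (a * b) v = ρ (b * a) v)
    (hfix : ∀ v ∈ U, (∀ d ∈ D, ρ d v = v) → v = 0) : FreeIn ρ H U := by
  classical
  let α : H →* MulAut D :=
    { toFun := fun h =>
        { toFun := fun d => ⟨(h : A) * d * (h : A)⁻¹, (Subgroup.mem_normalizer_iff.1 (hD h.2) _).1 d.2⟩
          invFun := fun d => ⟨(h : A)⁻¹ * d * (h : A),
            (Subgroup.mem_normalizer_iff.1 (hD h.2) _).2 (by simp [mul_assoc])⟩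
          left_inv := fun d => Subtype.ext (by simp [mul_assoc])
          right_inv := fun d => Subtype.ext (by simp [mul_assoc])
          map_mul' := fun a b => Subtype.ext (by simp [mul_assoc]) }
      map_one' := MulEquiv.ext fun d => Subtype.ext (show (1 : A) * d * (1 : A)⁻¹ = d by simp)
      map_mul' := fun a b => MulEquiv.ext fun d => Subtype.ext
        (show ((a : A) * b) * d * ((a : A) * b)⁻¹ = (a : A) * ((b : A) * d * (b : A)⁻¹) * (a : A)⁻¹ by group) }
  obtain ⟨W, hWi, hWs⟩ := isFree_of_abelian (resHom hUH) (resHom hUD) α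
    (fun h d => LinearMap.ext fun v => Subtype.ext (by
      simp only [Module.End.mul_apply, resHom_apply]
      rw [← Module.End.mul_apply, ← map_mul, ← Module.End.mul_apply, ← map_mul]
      congr 2
      show (h : A) * d = (h : A) * d * (h : A)⁻¹ * h
      group))
    (fun a b => LinearMap.ext fun v => Subtype.ext (by
      simp only [Module.End.mul_apply, resHom_apply]
      rw [← Module.End.mul_apply, ← map_mul, ← Module.End.mul_apply, ← map_mul]
      exact hcomm a a.2 b b.2 v v.2))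
    hk
    (fun v hv => Subtype.ext (hfix v v.2 fun d hd => congrArg Subtype.val (hv ⟨d, hd⟩)))
    (fun h hh d hd => Subtype.ext (hfpf h h.2 (fun e => hh (Subtype.ext e)) d d.2 (congrArg Subtype.val hd)))
    hcop
  refine ⟨W.map U.subtype, Submodule.map_subtype_le U W, fun f hf h0 => ?_, fun u hu => ?_⟩
  · choose w hw hwf using fun h => Submodule.mem_map.1 (hf h)
    have := hWi w hw (Subtype.ext (by
      rw [AddSubmonoidClass.coe_finsetSum, ZeroMemClass.coe_zero, ← h0]
      exact Finset.sum_congr rfl fun h _ => by rw [resHom_apply, ← hwf]; rfl))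
    funext h
    rw [← hwf, congrFun this h]
    simp
  · obtain ⟨f, hf, hfu⟩ := hWs ⟨u, hu⟩
    refine ⟨fun h => (f h : V), fun h => Submodule.mem_map_of_mem (hf h), ?_⟩
    have := congrArg Subtype.val hfu
    rw [AddSubmonoidClass.coe_finsetSum] at this
    exact this

omit [Fintype H] in
theorem split_of_invertible {D : Subgroup A} (hk : (Nat.card D : k) ≠ 0) {B : Subgroup A}
    (hBD : B ≤ Subgroup.normalizer (D : Set A)) {U : Submodule k V} (hUB : Inv ρ B U) (hUD : Inv ρ D U) :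
    ∃ U₁ U₂ : Submodule k V, U₁ ⊓ U₂ = ⊥ ∧ U₁ ⊔ U₂ = U ∧ Inv ρ B U₁ ∧ Inv ρ B U₂ ∧
      (∀ v ∈ U₁, ∀ d ∈ D, ρ d v = v) ∧ ∀ v ∈ U₂, (∀ d ∈ D, ρ d v = v) → v = 0 := by
  classical
  haveI := Fintype.ofFinite D
  set e : Module.End k V := (Nat.card D : k)⁻¹ • ∑ d : D, ρ (d : A)
  have hde : ∀ d ∈ D, ρ d * e = e := by
    intro d hd
    simp only [e, mul_smul_comm, Finset.mul_sum]
    congr 1
    exact Fintype.sum_equiv (Equiv.mulLeft ⟨d, hd⟩) _ _ fun c => by simp
  have hid : ∀ v, (∀ d ∈ D, ρ d v = v) → e v = v := by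
    intro v hv
    simp only [e, LinearMap.smul_apply, LinearMap.sum_apply, fun d : D => hv d d.2, Finset.sum_const,
      Finset.card_univ, ← Nat.card_eq_fintype_card]
    rw [← Nat.cast_smul_eq_nsmul k, smul_smul, inv_mul_cancel₀ hk, one_smul]
  have heU : ∀ v ∈ U, e v ∈ U := fun v hv => by
    simp only [e, LinearMap.smul_apply, LinearMap.sum_apply]
    exact U.smul_mem _ (U.sum_mem fun d _ => hUD d d.2 v hv)
  have hcomm : ∀ b ∈ B, ρ b * e = e * ρ b := by
    intro b hb
    simp only [e, mul_smul_comm, smul_mul_assoc, Finset.mul_sum, Finset.sum_mul]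
    congr 1
    refine Fintype.sum_equiv
      { toFun := fun d : D => (⟨b * d * b⁻¹, (Subgroup.mem_normalizer_iff.1 (hBD hb) _).1 d.2⟩ : D)
        invFun := fun d : D => ⟨b⁻¹ * d * b,
          (Subgroup.mem_normalizer_iff.1 (hBD hb) _).2 (by simp [mul_assoc])⟩
        left_inv := fun d => Subtype.ext (by simp [mul_assoc])
        right_inv := fun d => Subtype.ext (by simp [mul_assoc]) } _ _ fun d => ?_
    rw [← map_mul, ← map_mul]
    simp [mul_assoc]
  refine ⟨U ⊓ LinearMap.ker (e - 1), U ⊓ LinearMap.ker e, ?_, ?_, ?_, ?_, ?_, ?_⟩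
  · rw [eq_bot_iff]
    rintro v ⟨⟨-, h1⟩, -, h2⟩
    simp only [SetLike.mem_coe, LinearMap.mem_ker, LinearMap.sub_apply, Module.End.one_apply, sub_eq_zero] at h1 h2
    rw [Submodule.mem_bot, ← h1, h2]
  · refine le_antisymm (sup_le inf_le_left inf_le_left) fun v hv => ?_
    have hee : e (e v) = e v := hid _ fun d hd => by rw [← Module.End.mul_apply, hde d hd]
    rw [show v = e v + (v - e v) by abel]
    exact Submodule.add_mem_sup ⟨heU v hv, by simp [hee]⟩ ⟨U.sub_mem hv (heU v hv), by simp [hee]⟩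
  · rintro b hb v ⟨hv, h1⟩
    refine ⟨hUB b hb v hv, ?_⟩
    simp only [SetLike.mem_coe, LinearMap.mem_ker, LinearMap.sub_apply, Module.End.one_apply, sub_eq_zero] at h1 ⊢
    rw [← Module.End.mul_apply, ← hcomm b hb, Module.End.mul_apply, h1]
  · rintro b hb v ⟨hv, h1⟩
    refine ⟨hUB b hb v hv, ?_⟩
    simp only [SetLike.mem_coe, LinearMap.mem_ker] at h1 ⊢
    rw [← Module.End.mul_apply, ← hcomm b hb, Module.End.mul_apply, h1, map_zero]
  · rintro v ⟨-, h1⟩ d hd
    simp only [SetLike.mem_coe, LinearMap.mem_ker, LinearMap.sub_apply, Module.End.one_apply, sub_eq_zero] at h1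
    rw [← h1, ← Module.End.mul_apply, hde d hd]
  · rintro v ⟨-, h1⟩ hv
    simp only [SetLike.mem_coe, LinearMap.mem_ker] at h1
    rw [← hid v hv, h1]

/-- The derived series inside the ambient group. -/
def ser (K : Subgroup A) : ℕ → Subgroup A
  | 0 => K
  | i + 1 => ⁅ser K i, ser K i⁆

omit [Finite A] in
theorem ser_eq (K : Subgroup A) : ∀ i, ser K i = (derivedSeries K i).map K.subtype
  | 0 => by rw [derivedSeries_zero, ← MonoidHom.range_eq_map, K.range_subtype]; rfl
  | i + 1 => by rw [derivedSeries_succ, Subgroup.map_commutator, ← ser_eq K i]; rfl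

omit [Finite A] in
theorem ser_le (K : Subgroup A) (i : ℕ) : ser K i ≤ K := by
  rw [ser_eq]; exact Subgroup.map_subtype_le _

omit [Finite A] in
theorem normalizer_le_ser (K : Subgroup A) {B : Subgroup A} (hB : B ≤ Subgroup.normalizer (K : Set A)) :
    ∀ i, B ≤ Subgroup.normalizer (ser K i : Set A)
  | 0 => hB
  | i + 1 => fun b hb => by
    have h := normalizer_le_ser K hB i hb
    rw [Subgroup.mem_normalizer_iff_map_conj_eq] at h ⊢
    show Subgroup.map (MulAut.conj b).toMonoidHom ⁅ser K i, ser K i⁆ = ⁅ser K i, ser K i⁆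
    rw [Subgroup.map_commutator]
    have h' : Subgroup.map (MulAut.conj b).toMonoidHom (ser K i) = ser K i := h
    rw [h']

theorem freeIn_of_series (hHK : H ≤ Subgroup.normalizer (K : Set A)) (hk : (Nat.card K : k) ≠ 0)
    (hcop : (Nat.card H).Coprime (Nat.card K))
    (hfpf : ∀ h ∈ H, h ≠ 1 → ∀ d ∈ K, h * d * h⁻¹ = d → d = 1) :
    ∀ (i : ℕ) (U : Submodule k V), Inv ρ (H ⊔ K) U → (∀ d ∈ ser K i, ∀ v ∈ U, ρ d v = v) →
      (∀ v ∈ U, (∀ d ∈ K, ρ d v = v) → v = 0) → FreeIn ρ H U := by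
  intro i
  induction i with
  | zero =>
    intro U _ htriv hfix
    have : U = ⊥ := by
      rw [eq_bot_iff]
      intro v hv
      exact (Submodule.mem_bot k).2 (hfix v hv fun d hd => htriv d hd v hv)
    rw [this]; exact freeIn_bot
  | succ i ih =>
    intro U hU htriv hfix
    have hdvd : Nat.card (ser K i) ∣ Nat.card K := Subgroup.card_dvd_of_le (ser_le K i)
    have hki : (Nat.card (ser K i) : k) ≠ 0 := by
      obtain ⟨c, hc⟩ := hdvd
      intro h0; apply hk; rw [hc, Nat.cast_mul, h0, zero_mul]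
    have hB : H ⊔ K ≤ Subgroup.normalizer (ser K i : Set A) :=
      sup_le (normalizer_le_ser K hHK i) (normalizer_le_ser K Subgroup.le_normalizer i)
    have hUD : Inv ρ (ser K i) U := fun a ha => hU a (Subgroup.mem_sup_right (ser_le K i ha))
    obtain ⟨U₁, U₂, hd, hs, h1, h2, h1t, h2f⟩ := split_of_invertible hki hB hU hUD
    have hl1 : U₁ ≤ U := hs ▸ le_sup_left
    have hl2 : U₂ ≤ U := hs ▸ le_sup_right
    refine FreeIn.sup (ih U₁ h1 (fun d hd v hv => h1t v hv d hd) fun v hv => hfix v (hl1 hv)) ?_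
      (fun a ha => h1 a (Subgroup.mem_sup_left ha)) (fun a ha => h2 a (Subgroup.mem_sup_left ha)) hd hs
    refine freeIn_of_abelian (fun a ha => h2 a (Subgroup.mem_sup_left ha))
      (fun a ha => h2 a (Subgroup.mem_sup_right (ser_le K i ha))) (normalizer_le_ser K hHK i) hki
      (hcop.coprime_dvd_right hdvd) (fun h hh h1' d hd' => hfpf h hh h1' d (ser_le K i hd')) ?_ h2f
    intro a ha b hb v hv
    have hc : a * b * a⁻¹ * b⁻¹ ∈ ser K (i + 1) := Subgroup.commutator_mem_commutator ha hb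
    have hw : ρ (b * a) v ∈ U := hU _ (Subgroup.mem_sup_right (mul_mem (ser_le K i hb) (ser_le K i ha))) v (hl2 hv)
    rw [← htriv _ hc (ρ (b * a) v) hw, ← Module.End.mul_apply, ← map_mul]
    congr 2
    group

/-- A nilpotent-by-fixed-point-free configuration. -/
theorem exists_core {Fk : Subgroup A} [Fk.Normal] (hnil : Group.IsNilpotent Fk)
    (hCF : ∀ v : V, (∀ f ∈ Fk, ρ f v = v) → v = 0) :
    ∃ K : Subgroup A, K ≤ Fk ∧ (∀ a : A, a ∈ Subgroup.normalizer (K : Set A)) ∧ (Nat.card K : k) ≠ 0 ∧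
      ∀ v : V, (∀ f ∈ K, ρ f v = v) → v = 0 := by
  obtain hk | hk := em ((Nat.card Fk : k) = 0)
  swap
  · exact ⟨Fk, le_rfl, fun a => by rw [Subgroup.normalizer_eq_top]; exact Subgroup.mem_top a, hk, hCF⟩
  set p := ringChar k
  haveI : CharP k p := ringChar.charP k
  have hpd : p ∣ Nat.card Fk := (CharP.cast_eq_zero_iff k p _).1 hk
  have hp : p.Prime := (CharP.char_is_prime_or_zero k p).resolve_right fun h0 => by
    rw [h0, Nat.zero_dvd] at hpd; exact Nat.card_pos.ne' hpd
  haveI := Fact.mk hp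
  obtain ⟨P⟩ : Nonempty (Sylow p Fk) := inferInstance
  haveI : (P : Subgroup Fk).Normal := P.normal_of_normalizerCondition Group.normalizerCondition_of_isNilpotent
  obtain ⟨K₀, hK₀⟩ := Subgroup.exists_right_complement'_of_coprime
    (show (Nat.card (P : Subgroup Fk)).Coprime (P : Subgroup Fk).index from P.card_coprime_index)
  have hK₀p : ¬ p ∣ Nat.card K₀ := by rw [← hK₀.symm.index_eq_card]; exact P.not_dvd_index
  -- the elements of `K₀` are the elements of order prime to `p`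
  have hcom : ∀ (a : (P : Subgroup Fk)) (b : K₀), Commute (a : Fk) (b : Fk) := by
    intro a b
    haveI := Group.IsNilpotent.nilpotent Fk
    obtain ⟨j, hj⟩ := IsPGroup.iff_orderOf.1 P.isPGroup' a
    have hcop : (orderOf (a : Fk)).Coprime (orderOf (b : Fk)) := by
      rw [Subgroup.orderOf_coe, Subgroup.orderOf_coe, hj]
      exact (((hp.coprime_iff_not_dvd).2 hK₀p).coprime_dvd_right (orderOf_dvd_natCard b)).pow_left j
    exact OddLocal.commute_of_coprime_orderOf hcop
  have hiff : ∀ x : Fk, x ∈ K₀ ↔ ¬ p ∣ orderOf x := by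
    intro x
    refine ⟨fun hx hd => hK₀p (hd.trans ?_), fun hx => ?_⟩
    · rw [← Subgroup.orderOf_mk x hx]; exact orderOf_dvd_natCard _
    obtain ⟨⟨a, b⟩, rfl⟩ := hK₀.2 x
    obtain ⟨j, hj⟩ := IsPGroup.iff_orderOf.1 P.isPGroup' a
    have hcop : (orderOf (a : Fk)).Coprime (orderOf (b : Fk)) := by
      rw [Subgroup.orderOf_coe, Subgroup.orderOf_coe, hj]
      exact (((hp.coprime_iff_not_dvd).2 hK₀p).coprime_dvd_right (orderOf_dvd_natCard b)).pow_left j
    rw [(hcom a b).orderOf_mul_eq_mul_orderOf_of_coprime hcop, Subgroup.orderOf_coe, hj] at hx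
    rcases Nat.eq_zero_or_pos j with h0 | h0
    · rw [h0, pow_zero, orderOf_eq_one_iff] at hj
      simp [hj]
    · exact absurd (dvd_mul_of_dvd_left (dvd_pow_self p h0.ne') _) hx
  refine ⟨K₀.map Fk.subtype, Subgroup.map_subtype_le _, fun a => ?_, ?_, fun v hv => ?_⟩
  · have key : ∀ a : A, ∀ x ∈ K₀.map Fk.subtype, a * x * a⁻¹ ∈ K₀.map Fk.subtype := by
      rintro a _ ⟨x, hx, rfl⟩
      refine ⟨⟨a * x * a⁻¹, Subgroup.Normal.conj_mem inferInstance _ x.2 a⟩, ?_, rfl⟩
      rw [SetLike.mem_coe, hiff, Subgroup.orderOf_mk,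
        show a * (x : A) * a⁻¹ = MulAut.conj a x from rfl, MulEquiv.orderOf_eq, Subgroup.orderOf_coe]
      exact (hiff x).1 hx
    rw [Subgroup.mem_normalizer_iff]
    refine fun x => ⟨key a x, fun h => ?_⟩
    have := key a⁻¹ _ h
    simpa [mul_assoc] using this
  · rw [Subgroup.card_map_of_injective Fk.subtype_injective]
    exact fun h => hK₀p ((CharP.cast_eq_zero_iff k p _).1 h)
  by_contra hv0
  -- the finite group spanned by the orbit of `v` under `P`
  let g : ↥(P : Subgroup Fk) → V →ₗ[k] V := fun x => ρ ((x : Fk) : A)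
  set S := AddSubgroup.closure (Set.range fun x => g x v) with hS
  haveI : AddGroup.FG S := by
    rw [AddGroup.fg_iff_addSubgroup_fg]
    exact ⟨(Set.finite_range fun x => g x v).toFinset, by simp [hS]⟩
  have hexp : ∀ s : S, p • s = 0 := fun s => Subtype.ext (by
    rw [AddSubgroup.coe_nsmul, ← Nat.cast_smul_eq_nsmul k, CharP.cast_eq_zero, zero_smul]; rfl)
  haveI : Finite S := AddCommGroup.finite_of_fg_torsion S fun s =>
    isOfFinAddOrder_iff_nsmul_eq_zero.2 ⟨p, hp.pos, hexp s⟩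
  have hgS : ∀ x, ∀ s ∈ S, g x s ∈ S := by
    intro x s hs
    induction hs using AddSubgroup.closure_induction with
    | mem y hy =>
      obtain ⟨z, rfl⟩ := hy
      refine AddSubgroup.subset_closure ⟨x * z, ?_⟩
      show ρ (((x * z : (P : Subgroup Fk)) : Fk) : A) v = ρ ((x : Fk) : A) (ρ ((z : Fk) : A) v)
      rw [← Module.End.mul_apply, ← map_mul]; rfl
    | zero => rw [map_zero]; exact S.zero_mem
    | add a b _ _ ha hb => rw [map_add]; exact S.add_mem ha hb
    | neg a _ ha => rw [map_neg]; exact S.neg_mem ha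
  let act : MulAction (P : Subgroup Fk) S :=
    { smul := fun x s => ⟨g x s, hgS x s s.2⟩
      one_smul := fun s => Subtype.ext (show ρ (((1 : (P : Subgroup Fk)) : Fk) : A) (s : V) = s by simp)
      mul_smul := fun x y s => Subtype.ext (show g (x * y) (s : V) = g x (g y s) by
        simp only [g, Subgroup.coe_mul, map_mul, Module.End.mul_apply]) }
  have hfix0 : (0 : S) ∈ MulAction.fixedPoints (P : Subgroup Fk) S := fun x => Subtype.ext (map_zero (g x))
  have hvS : v ∈ S := AddSubgroup.subset_closure ⟨1, by simp [g]⟩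
  have hdiv : p ∣ Nat.card S := by
    have h1 : addOrderOf (⟨v, hvS⟩ : S) = p := addOrderOf_eq_prime (hexp _) fun h => hv0 (congrArg Subtype.val h)
    exact h1 ▸ addOrderOf_dvd_natCard _
  obtain ⟨w, hw, hw0⟩ := P.isPGroup'.exists_fixed_point_of_prime_dvd_card_of_fixed_point S hdiv hfix0
  refine hw0 (Subtype.ext (hCF (w : V) fun f hf => ?_).symm)
  obtain ⟨⟨a, b⟩, hab⟩ := hK₀.2 ⟨f, hf⟩
  have hb : ρ ((b : Fk) : A) (w : V) = w := by
    have hbv : ∀ s ∈ S, ρ ((b : Fk) : A) s = s := by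
      intro s hs
      induction hs using AddSubgroup.closure_induction with
      | mem y hy =>
        obtain ⟨z, rfl⟩ := hy
        show ρ ((b : Fk) : A) (ρ ((z : Fk) : A) v) = ρ ((z : Fk) : A) v
        rw [← Module.End.mul_apply, ← map_mul, ← Subgroup.coe_mul, ← (hcom z b).eq, Subgroup.coe_mul, map_mul,
          Module.End.mul_apply, hv ((b : Fk) : A) (Subgroup.mem_map_of_mem Fk.subtype b.2)]
      | zero => rw [map_zero]
      | add a c _ _ ha hc => rw [map_add, ha, hc]
      | neg a _ ha => rw [map_neg, ha]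
    exact hbv _ w.2
  have e : f = ((a : Fk) : A) * ((b : Fk) : A) := (congrArg Subtype.val hab).symm
  rw [e, map_mul, Module.End.mul_apply, hb]
  exact congrArg Subtype.val (hw a)

/-- Frobenius complements act freely. -/
theorem main [DecidableEq A] (ρ : Representation k A V) (Fk Hc : Subgroup A) [Fk.Normal]
    (hHc : Cfsg.IsFrobeniusComplement Hc) (hker : Cfsg.frobeniusKernel Hc = (Fk : Set A))
    (hnil : Group.IsNilpotent Fk) (hCF : ∀ v : V, (∀ f ∈ Fk, ρ f v = v) → v = 0) :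
    ∃ W : Submodule k V, DirectSum.IsInternal (fun h : Hc => W.map (ρ (h : A))) := by
  haveI := Fintype.ofFinite Hc
  obtain ⟨-, -, hTI⟩ := hHc
  have hinf : ∀ x ∈ Fk, x ∈ Hc → x = 1 := by
    intro x hx hxH
    have hxk : x ∈ Cfsg.frobeniusKernel Hc := hker ▸ hx
    refine hxk.resolve_right fun hn => hn 1 ?_
    simpa using hxH
  have hfpf : ∀ h ∈ Hc, h ≠ 1 → ∀ d ∈ Fk, h * d * h⁻¹ = d → d = 1 := by
    intro h hh h1 d hd hhd
    refine hinf d hd ?_
    by_contra hdH
    have hmem : h ∈ Hc ⊓ MulAut.conj d • Hc := by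
      refine ⟨hh, Subgroup.mem_pointwise_smul_iff_inv_smul_mem.2 ?_⟩
      rw [MulAut.smul_def, MulAut.inv_apply, MulAut.conj_symm_apply]
      have : d⁻¹ * h * d = h := by
        rw [mul_assoc, mul_inv_eq_iff_eq_mul.1 hhd, inv_mul_cancel_left]
      rw [this]; exact hh
    rw [hTI d hdH, Subgroup.mem_bot] at hmem
    exact h1 hmem
  have hcop : (Nat.card Hc).Coprime (Nat.card Fk) := by
    refine Nat.coprime_of_dvd fun r hr hrH hrF => ?_
    haveI := Fact.mk hr
    obtain ⟨h, hord⟩ := exists_prime_orderOf_dvd_card' r hrH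
    set hA := (h : A)
    have hordA : orderOf hA = r := by rw [Subgroup.orderOf_coe]; exact hord
    let act : MulAction (Subgroup.zpowers hA) Fk :=
      { smul := fun a f => ⟨(a : A) * f * (a : A)⁻¹, Subgroup.Normal.conj_mem inferInstance _ f.2 _⟩
        one_smul := fun f => Subtype.ext (show (1 : A) * f * (1 : A)⁻¹ = f by simp)
        mul_smul := fun a b f => Subtype.ext
          (show ((a : A) * b) * f * ((a : A) * b)⁻¹ = (a : A) * ((b : A) * f * (b : A)⁻¹) * (a : A)⁻¹ by group) }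
    have hp : IsPGroup r (Subgroup.zpowers hA) :=
      IsPGroup.of_card (n := 1) (by rw [Nat.card_zpowers, hordA, pow_one])
    have h1 : (1 : Fk) ∈ MulAction.fixedPoints (Subgroup.zpowers hA) Fk := fun a =>
      Subtype.ext (show (a : A) * 1 * (a : A)⁻¹ = 1 by simp)
    obtain ⟨f, hf, hf1⟩ := hp.exists_fixed_point_of_prime_dvd_card_of_fixed_point Fk hrF h1
    refine hf1 (Subtype.ext (hfpf hA h.2 (fun e => ?_) f f.2
      (congrArg Subtype.val (hf ⟨hA, Subgroup.mem_zpowers hA⟩))).symm)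
    rw [e, orderOf_one] at hordA
    exact hr.ne_one hordA.symm
  obtain ⟨K, hKF, hKn, hk, hfix⟩ := exists_core (ρ := ρ) hnil hCF
  haveI := hnil
  obtain ⟨i, hi⟩ : Group.IsSolvable K := by
    haveI : Group.IsNilpotent (K.subgroupOf Fk) := inferInstance
    haveI : Group.IsNilpotent K := Group.nilpotent_of_mulEquiv (Subgroup.subgroupOfEquivOfLe hKF)
    infer_instance
  have hfree := freeIn_of_series (ρ := ρ) (H := Hc) (K := K) (fun a _ => hKn a) hk
    (hcop.coprime_dvd_right (Subgroup.card_dvd_of_le hKF))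
    (fun h hh h1 d hd => hfpf h hh h1 d (hKF hd)) i ⊤ (fun _ _ v _ => Submodule.mem_top)
    (fun d hd v _ => by
      rw [ser_eq, hi, Subgroup.map_bot, Subgroup.mem_bot] at hd
      simp [hd])
    (fun v _ => hfix v)
  obtain ⟨W, -, hWi, hWs⟩ := hfree
  exact IsFree.isInternal (σ := (ρ.comp Hc.subtype : Hc →* Module.End k V)) ⟨W, hWi, fun v => hWs v Submodule.mem_top⟩

end Cfsg.Agent.FGS4.FreeModule
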